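import Cfsg.Agent.H0.Sz.L.D0

/-! Generated by tools/h0/suz/genL.py. -/

set_option maxRecDepth 100000
set_option maxHeartbeats 0

namespace H0.Sz
open H16 H0.TR H0.Am H0.Fi
open scoped commutatorElement

theorem pCtn1_0 : (Nat.ble pCtl0.K 16 && Nat.beq (ltAll 1782 []) 0 && kChk pCe_P p_P pCtn1.Kn 2 H16.Suz.B [] && allL (ltAll 2) pCtn1.pre && planOK pCth_P p_P 2 (pCtl0.Pt 0) pCtn1.plan [pCtl0, pCtl1, pCtl2, pCtl3, pCtl4, pCtl5, pCtl6]) = true := by decide +kernel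
theorem pCtn1_1_0 : allZ (pCtn1.ent H16.Suz.P pCth_P p_P p_P pCe_P (nat_lit 7) (nat_lit 2) H16.Suz.B pCtl0 [pCtl1, pCtl2, pCtl3, pCtl4, pCtl5, pCtl6] (memO pCc0)) (nat_lit 0) (nat_lit 1782) = true := by decide +kernel
theorem pC_f0 : (Nat.ble pCc0.K 2 && Nat.ble (topK [pCc4]) pCc0.K && Nat.beq (pCc0.Pt 0) (pCtl0.Pt 0) && Nat.beq (ltAll 1782 []) 0 && kChk pCe_P p_P pCc0.K 2 H16.Suz.B []) = true := by decide +kernel
theorem pC_c : chainCard [pCc0, pCc4] = 25 ∧ topK [pCc0, pCc4] = 2 := by decide +kernel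
theorem pn_k : allZ2 (fun a j => force a fun a => cjL p_P p_P 2 H16.Suz.B a [j] (nth [] (nth [] [[[nat_lit 0],
  [nat_lit 1]], [[nat_lit 0],
  [nat_lit 1]], [[nat_lit 0, nat_lit 0],
  [nat_lit 1, nat_lit 1]], [[nat_lit 0, nat_lit 1],
  [nat_lit 1, nat_lit 1, nat_lit 1, nat_lit 1]], [[nat_lit 0, nat_lit 0, nat_lit 0, nat_lit 0],
  [nat_lit 0, nat_lit 1]]] a) j)) 5 2 = true := by decide +kernel
theorem peh_lt : allL (ltAll 7) peh_W = true := by decide +kernel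
theorem pel0_e_0 : allZ (dent pel0 peh_P (nat_lit 1782)) (nat_lit 0) (nat_lit 1781) = true := by decide +kernel
theorem pel0_h : 0 < pel0.n ∧ 0 < pel0.K ∧ pel0.Pt 0 < 1782 ∧ pel0.Q (pel0.Pt 0) = 0 := by decide +kernel
theorem pel1_e_0 : allZ (dent pel1 peh_P (nat_lit 1782)) (nat_lit 0) (nat_lit 415) = true := by decide +kernel
theorem pel1_h : 0 < pel1.n ∧ 0 < pel1.K ∧ pel1.Pt 0 < 1782 ∧ pel1.Q (pel1.Pt 0) = 0 := by decide +kernel
theorem pel2_e_0 : allZ (dent pel2 peh_P (nat_lit 1782)) (nat_lit 0) (nat_lit 99) = true := by decide +kernel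
theorem pel2_h : 0 < pel2.n ∧ 0 < pel2.K ∧ pel2.Pt 0 < 1782 ∧ pel2.Q (pel2.Pt 0) = 0 := by decide +kernel
theorem pel3_e_0 : allZ (dent pel3 peh_P (nat_lit 1782)) (nat_lit 0) (nat_lit 62) = true := by decide +kernel
theorem pel3_h : 0 < pel3.n ∧ 0 < pel3.K ∧ pel3.Pt 0 < 1782 ∧ pel3.Q (pel3.Pt 0) = 0 := by decide +kernel
theorem pel4_e_0 : allZ (dent pel4 peh_P (nat_lit 1782)) (nat_lit 0) (nat_lit 23) = true := by decide +kernel
theorem pel4_h : 0 < pel4.n ∧ 0 < pel4.K ∧ pel4.Pt 0 < 1782 ∧ pel4.Q (pel4.Pt 0) = 0 := by decide +kernel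
theorem pel5_e_0 : allZ (dent pel5 peh_P (nat_lit 1782)) (nat_lit 0) (nat_lit 1) = true := by decide +kernel
theorem pel5_h : 0 < pel5.n ∧ 0 < pel5.K ∧ pel5.Pt 0 < 1782 ∧ pel5.Q (pel5.Pt 0) = 0 := by decide +kernel
theorem pel6_e_0 : allZ (dent pel6 peh_P (nat_lit 1782)) (nat_lit 0) (nat_lit 1) = true := by decide +kernel
theorem pel6_h : 0 < pel6.n ∧ 0 < pel6.K ∧ pel6.Pt 0 < 1782 ∧ pel6.Q (pel6.Pt 0) = 0 := by decide +kernel
theorem pe_f6 : (Nat.ble pel6.K 15 && Nat.ble (topK []) pel6.K && fixLetters peh_P (topK []) (pel6.Pt 0)) = true := by decide +kernel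
theorem pe_f5 : (Nat.ble pel5.K 15 && Nat.ble (topK [pel6]) pel5.K && fixLetters peh_P (topK [pel6]) (pel5.Pt 0)) = true := by decide +kernel
theorem pe_f4 : (Nat.ble pel4.K 15 && Nat.ble (topK [pel5, pel6]) pel4.K && fixLetters peh_P (topK [pel5, pel6]) (pel4.Pt 0)) = true := by decide +kernel
theorem pe_f3 : (Nat.ble pel3.K 15 && Nat.ble (topK [pel4, pel5, pel6]) pel3.K && fixLetters peh_P (topK [pel4, pel5, pel6]) (pel3.Pt 0)) = true := by decide +kernel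
theorem pe_f2 : (Nat.ble pel2.K 15 && Nat.ble (topK [pel3, pel4, pel5, pel6]) pel2.K && fixLetters peh_P (topK [pel3, pel4, pel5, pel6]) (pel2.Pt 0)) = true := by decide +kernel
theorem pe_f1 : (Nat.ble pel1.K 15 && Nat.ble (topK [pel2, pel3, pel4, pel5, pel6]) pel1.K && fixLetters peh_P (topK [pel2, pel3, pel4, pel5, pel6]) (pel1.Pt 0)) = true := by decide +kernel
theorem pe_f0 : (Nat.ble pel0.K 15 && Nat.ble (topK [pel1, pel2, pel3, pel4, pel5, pel6]) pel0.K && fixLetters peh_P (topK [pel1, pel2, pel3, pel4, pel5, pel6]) (pel0.Pt 0)) = true := by decide +kernel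
theorem pe_c : chainCard [pel0, pel1, pel2, pel3, pel4, pel5, pel6] = 448345497600 := by decide +kernel
theorem pb_lt : allL (ltAll 5) pb_W = true := by decide +kernel
theorem per0k_lt : allL (ltAll 7) per0k_W = true := by decide +kernel
theorem pen0y0_lt : allL (ltAll 7) pen0y0_W = true := by decide +kernel
theorem per1k_lt : allL (ltAll 7) per1k_W = true := by decide +kernel
theorem pen1y1_lt : allL (ltAll 7) pen1y1_W = true := by decide +kernel
theorem per2k_lt : allL (ltAll 7) per2k_W = true := by decide +kernel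
theorem pen2_0 : (Nat.ble pel2.K 15 && Nat.beq (ltAll 1782 [pel1.Pt 0, pel0.Pt 0]) 0 && kChk per2k_P pen1y1_P pen2.Kn 1 H16.Suz.B [pel1.Pt 0, pel0.Pt 0] && allL (ltAll 1) pen2.pre && planOK peh_P p_P 1 (pel2.Pt 0) pen2.plan [pel2, pel3, pel4, pel5, pel6]) = true := by decide +kernel
theorem pen2_1_0 : allZ (pen2.ent H16.Suz.P peh_P p_P pen1y1_P per2k_P (nat_lit 7) (nat_lit 1) H16.Suz.B pel2 [pel3, pel4, pel5, pel6] (fun _ => nat_lit 1)) (nat_lit 0) (nat_lit 100) = true := by decide +kernel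
theorem pen1_0 : (Nat.ble pel1.K 15 && Nat.beq (ltAll 1782 [pel0.Pt 0]) 0 && kChk per1k_P pen0y0_P pen1.Kn 1 H16.Suz.B [pel0.Pt 0] && allL (ltAll 1) pen1.pre && planOK peh_P p_P 1 (pel1.Pt 0) pen1.plan [pel1, pel2, pel3, pel4, pel5, pel6]) = true := by decide +kernel
theorem pen1_1_0 : allZ (pen1.ent H16.Suz.P peh_P p_P pen0y0_P per1k_P (nat_lit 7) (nat_lit 1) H16.Suz.B pel1 [pel2, pel3, pel4, pel5, pel6] (fun _ => nat_lit 1)) (nat_lit 0) (nat_lit 416) = true := by decide +kernel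
theorem pen0y1_lt : allL (ltAll 7) pen0y1_W = true := by decide +kernel
theorem per3k_lt : allL (ltAll 7) per3k_W = true := by decide +kernel
theorem pen3y1_lt : allL (ltAll 7) pen3y1_W = true := by decide +kernel
theorem per4k_lt : allL (ltAll 7) per4k_W = true := by decide +kernel
theorem pen4_0 : (Nat.ble pel2.K 15 && Nat.beq (ltAll 1782 [pel1.Pt 0, pel0.Pt 0]) 0 && kChk per4k_P pen3y1_P pen4.Kn 1 H16.Suz.B [pel1.Pt 0, pel0.Pt 0] && allL (ltAll 1) pen4.pre && planOK peh_P p_P 1 (pel2.Pt 0) pen4.plan [pel2, pel3, pel4, pel5, pel6]) = true := by decide +kernel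
theorem pen4_1_0 : allZ (pen4.ent H16.Suz.P peh_P p_P pen3y1_P per4k_P (nat_lit 7) (nat_lit 1) H16.Suz.B pel2 [pel3, pel4, pel5, pel6] (fun _ => nat_lit 1)) (nat_lit 0) (nat_lit 100) = true := by decide +kernel
theorem pen3_0 : (Nat.ble pel1.K 15 && Nat.beq (ltAll 1782 [pel0.Pt 0]) 0 && kChk per3k_P pen0y1_P pen3.Kn 1 H16.Suz.B [pel0.Pt 0] && allL (ltAll 1) pen3.pre && planOK peh_P p_P 1 (pel1.Pt 0) pen3.plan [pel1, pel2, pel3, pel4, pel5, pel6]) = true := by decide +kernel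
theorem pen3_1_0 : allZ (pen3.ent H16.Suz.P peh_P p_P pen0y1_P per3k_P (nat_lit 7) (nat_lit 1) H16.Suz.B pel1 [pel2, pel3, pel4, pel5, pel6] (fun _ => nat_lit 1)) (nat_lit 0) (nat_lit 416) = true := by decide +kernel
theorem pen0_0 : (Nat.ble pel0.K 15 && Nat.beq (ltAll 1782 []) 0 && kChk per0k_P pb_P pen0.Kn 1 H16.Suz.B [] && allL (ltAll 1) pen0.pre && planOK peh_P p_P 1 (pel0.Pt 0) pen0.plan [pel0, pel1, pel2, pel3, pel4, pel5, pel6]) = true := by decide +kernel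
theorem pen0_1_0 : allZ (pen0.ent H16.Suz.P peh_P p_P pb_P per0k_P (nat_lit 7) (nat_lit 1) H16.Suz.B pel0 [pel1, pel2, pel3, pel4, pel5, pel6] (fun _ => nat_lit 1)) (nat_lit 0) (nat_lit 1782) = true := by decide +kernel
theorem p1_k : eqL p_P 5 H16.Suz.B [nat_lit 4, nat_lit 3, nat_lit 4] [nat_lit 3, nat_lit 4, nat_lit 3] = 0 := by decide +kernel
theorem p2_k : allZ2 (fun a j => force a fun a => force j fun j => cjL (rl [nat_lit 2] p_P) (rl [nat_lit 3, nat_lit 4] p_P) 1 H16.Suz.B a [j] [j]) 2 1 = true := by decide +kernel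
theorem p3_k : fixL p_P 5 H16.Suz.B (List.replicate 4 2) = 0 := by decide +kernel
theorem p4_k : 1341 < 1782 ∧ ltAll 5 (List.replicate 2 2) = 0 ∧ ltAll 5 [] = 0 ∧ apW p_P (List.replicate 2 2) 1341 ≠ apW p_P [] 1341 := by decide +kernel
theorem p5_k : fixL p_P 5 H16.Suz.B (List.replicate 2 3) = 0 := by decide +kernel
theorem p6_k : fixL p_P 5 H16.Suz.B (List.replicate 2 4) = 0 := by decide +kernel
theorem p7_k : 1341 < 1782 ∧ ltAll 5 [nat_lit 3] = 0 ∧ ltAll 5 [nat_lit 4] = 0 ∧ apW p_P [nat_lit 3] 1341 ≠ apW p_P [nat_lit 4] 1341 := by decide +kernel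
theorem pk : (poq 1 = 0 ∧ poq 5 = 0) ∧ (∀ c < 5, poq c = 0) ∧ Nat.count (fun c => 5 ^ 0 ≤ c ∧ (poq c == 0) = true) (5 ^ 2) = 12 ∧ Nat.count (fun c => 5 ^ 1 ≤ c ∧ (poq c == 0) = true) (5 ^ 2) = 8 := by decide +kernel

end H0.Sz
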