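import Cfsg.Agent.H0.Sz.L.D0

/-! Generated by tools/h0/suz/genL.py. -/

set_option maxRecDepth 100000
set_option maxHeartbeats 0

namespace H0.Sz
open H16 H0.TR H0.Am H0.Fi
open scoped commutatorElement

theorem s3t_lt : allL (ltAll 6) s3t_W = true := by decide +kernel
theorem s3_r_a : allZ2 (resEnt s3t_P s3P s3E s3I (nat_lit 1782) (nat_lit 351)) (nat_lit 4) (nat_lit 351) = true := by decide +kernel
theorem s3_b : neL H16.Suz.B (s3B.map s3E) = 0 ∧ ltAll 351 s3B = 0 := by decide +kernel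
theorem s3_p : allZ2 (pcEnt s3P (nat_lit 3) s3B s3C) 4 4 = true := by decide +kernel
theorem s3_e : allL (ltAll 4) s3e = true := by decide +kernel
theorem s3l0_e_0 : allZ (dent s3l0 (wdsP s3P s3e) (nat_lit 351)) (nat_lit 0) (nat_lit 80) = true := by decide +kernel
theorem s3l0_h : 0 < s3l0.n ∧ 0 < s3l0.K ∧ s3l0.Pt 0 < 351 ∧ s3l0.Q (s3l0.Pt 0) = 0 := by decide +kernel
theorem s3_f0 : (Nat.ble s3l0.K 3 && Nat.ble (topK []) s3l0.K && fixLetters (wdsP s3P s3e) (topK []) (s3l0.Pt 0)) = true := by decide +kernel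
theorem s3_c : chainCard [s3l0] = 3 ^ 4 ∧ ¬ 3 ^ (4 + 1) ∣ 3317760 := by decide +kernel
theorem c3r_lt : allL (ltAll 6) c3r_W = true := by decide +kernel
theorem c3_c0 : (Nat.ble 4 4 && Nat.beq (ltAll 4 []) 0 && Nat.beq (c3T0.chk (rl [nat_lit 7, nat_lit 8, nat_lit 14, nat_lit 15, nat_lit 16, nat_lit 17] H0.Sz.F_P) s3P c3r_P s3E 6 4 3 3 4 s3B 4 [] 0) 0) = true := by decide +kernel
theorem x1_lt : allL (ltAll 21) x1_W = true := by decide +kernel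
theorem xq1_k : allZ (fun a => Nat.add (ltAll 7 (nth [] [[nat_lit 1],
  [nat_lit 2],
  [nat_lit 3],
  [nat_lit 4],
  [nat_lit 5],
  [nat_lit 6]] a)) (sumL (fun β => Nat.xor (x1_P a β) (apW (rl [nat_lit 0, nat_lit 1, nat_lit 2, nat_lit 3, nat_lit 18, nat_lit 19, nat_lit 20] H0.Sz.F_P) (nth [] [[nat_lit 1],
  [nat_lit 2],
  [nat_lit 3],
  [nat_lit 4],
  [nat_lit 5],
  [nat_lit 6]] a) β)) H16.Suz.B)) 0 6 = true := by decide +kernel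
theorem xp1_k : allZ (fun k => force k fun k => fixL x1_P 6 H16.Suz.B (List.replicate 2 k)) 0 6 = true := by decide +kernel
theorem xr1_k : Nat.add (ltAll 6 [nat_lit 2, nat_lit 5, nat_lit 3, nat_lit 3, nat_lit 4, nat_lit 0, nat_lit 2, nat_lit 4, nat_lit 1, nat_lit 4]) (sumL (fun β => Nat.xor (x1_P 6 β) (apW (rl [nat_lit 7, nat_lit 8, nat_lit 14, nat_lit 15, nat_lit 16, nat_lit 17] H0.Sz.F_P) [nat_lit 2, nat_lit 5, nat_lit 3, nat_lit 3, nat_lit 4, nat_lit 0, nat_lit 2, nat_lit 4, nat_lit 1, nat_lit 4] β)) H16.Suz.B) = 0 := by decide +kernel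
theorem y1_lt : allL (ltAll 7) y1_W = true := by decide +kernel
theorem yl1e_lt : allL (ltAll 6) yl1e_W = true := by decide +kernel
theorem yl1l0_e_0 : allZ (dent yl1l0 yl1e_P (nat_lit 1782)) (nat_lit 0) (nat_lit 63) = true := by decide +kernel
theorem yl1l0_h : 0 < yl1l0.n ∧ 0 < yl1l0.K ∧ yl1l0.Pt 0 < 1782 ∧ yl1l0.Q (yl1l0.Pt 0) = 0 := by decide +kernel
theorem yl1l1_e_0 : allZ (dent yl1l1 yl1e_P (nat_lit 1782)) (nat_lit 0) (nat_lit 1) = true := by decide +kernel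
theorem yl1l1_h : 0 < yl1l1.n ∧ 0 < yl1l1.K ∧ yl1l1.Pt 0 < 1782 ∧ yl1l1.Q (yl1l1.Pt 0) = 0 := by decide +kernel
theorem yl1_f1 : (Nat.ble yl1l1.K 6 && Nat.ble (topK []) yl1l1.K && fixLetters yl1e_P (topK []) (yl1l1.Pt 0)) = true := by decide +kernel
theorem yl1_f0 : (Nat.ble yl1l0.K 6 && Nat.ble (topK [yl1l1]) yl1l0.K && fixLetters yl1e_P (topK [yl1l1]) (yl1l0.Pt 0)) = true := by decide +kernel
theorem yl1_c : chainCard [yl1l0, yl1l1] = 128 := by decide +kernel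
theorem x2_lt : allL (ltAll 21) x2_W = true := by decide +kernel
theorem xq2_k : allZ (fun a => Nat.add (ltAll 7 (nth [] [[nat_lit 1],
  [nat_lit 2],
  [nat_lit 3],
  [nat_lit 4],
  [nat_lit 5],
  [nat_lit 6]] a)) (sumL (fun β => Nat.xor (x2_P a β) (apW (rl [nat_lit 0, nat_lit 1, nat_lit 2, nat_lit 3, nat_lit 18, nat_lit 19, nat_lit 20] H0.Sz.F_P) (nth [] [[nat_lit 1],
  [nat_lit 2],
  [nat_lit 3],
  [nat_lit 4],
  [nat_lit 5],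
  [nat_lit 6]] a) β)) H16.Suz.B)) 0 6 = true := by decide +kernel
theorem xp2_k : allZ (fun k => force k fun k => fixL x2_P 6 H16.Suz.B (List.replicate 2 k)) 0 6 = true := by decide +kernel
theorem xr2_k : Nat.add (ltAll 6 [nat_lit 5, nat_lit 0, nat_lit 5, nat_lit 0, nat_lit 2, nat_lit 5, nat_lit 2, nat_lit 2, nat_lit 4, nat_lit 3]) (sumL (fun β => Nat.xor (x2_P 6 β) (apW (rl [nat_lit 7, nat_lit 8, nat_lit 14, nat_lit 15, nat_lit 16, nat_lit 17] H0.Sz.F_P) [nat_lit 5, nat_lit 0, nat_lit 5, nat_lit 0, nat_lit 2, nat_lit 5, nat_lit 2, nat_lit 2, nat_lit 4, nat_lit 3] β)) H16.Suz.B) = 0 := by decide +kernel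
theorem y2_lt : allL (ltAll 7) y2_W = true := by decide +kernel
theorem yl2e_lt : allL (ltAll 6) yl2e_W = true := by decide +kernel
theorem yl2l0_e_0 : allZ (dent yl2l0 yl2e_P (nat_lit 1782)) (nat_lit 0) (nat_lit 63) = true := by decide +kernel
theorem yl2l0_h : 0 < yl2l0.n ∧ 0 < yl2l0.K ∧ yl2l0.Pt 0 < 1782 ∧ yl2l0.Q (yl2l0.Pt 0) = 0 := by decide +kernel
theorem yl2l1_e_0 : allZ (dent yl2l1 yl2e_P (nat_lit 1782)) (nat_lit 0) (nat_lit 1) = true := by decide +kernel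
theorem yl2l1_h : 0 < yl2l1.n ∧ 0 < yl2l1.K ∧ yl2l1.Pt 0 < 1782 ∧ yl2l1.Q (yl2l1.Pt 0) = 0 := by decide +kernel
theorem yl2_f1 : (Nat.ble yl2l1.K 6 && Nat.ble (topK []) yl2l1.K && fixLetters yl2e_P (topK []) (yl2l1.Pt 0)) = true := by decide +kernel
theorem yl2_f0 : (Nat.ble yl2l0.K 6 && Nat.ble (topK [yl2l1]) yl2l0.K && fixLetters yl2e_P (topK [yl2l1]) (yl2l0.Pt 0)) = true := by decide +kernel
theorem yl2_c : chainCard [yl2l0, yl2l1] = 128 := by decide +kernel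
theorem x3_lt : allL (ltAll 21) x3_W = true := by decide +kernel
theorem xq3_k : allZ (fun a => Nat.add (ltAll 7 (nth [] [[nat_lit 1],
  [nat_lit 2],
  [nat_lit 3],
  [nat_lit 4],
  [nat_lit 5],
  [nat_lit 6]] a)) (sumL (fun β => Nat.xor (x3_P a β) (apW (rl [nat_lit 0, nat_lit 1, nat_lit 2, nat_lit 3, nat_lit 18, nat_lit 19, nat_lit 20] H0.Sz.F_P) (nth [] [[nat_lit 1],
  [nat_lit 2],
  [nat_lit 3],
  [nat_lit 4],
  [nat_lit 5],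
  [nat_lit 6]] a) β)) H16.Suz.B)) 0 6 = true := by decide +kernel
theorem xp3_k : allZ (fun k => force k fun k => fixL x3_P 6 H16.Suz.B (List.replicate 2 k)) 0 6 = true := by decide +kernel
theorem xr3_k : Nat.add (ltAll 6 [nat_lit 2, nat_lit 4, nat_lit 3, nat_lit 4, nat_lit 3, nat_lit 0, nat_lit 3, nat_lit 5, nat_lit 3, nat_lit 3, nat_lit 0, nat_lit 5]) (sumL (fun β => Nat.xor (x3_P 6 β) (apW (rl [nat_lit 7, nat_lit 8, nat_lit 14, nat_lit 15, nat_lit 16, nat_lit 17] H0.Sz.F_P) [nat_lit 2, nat_lit 4, nat_lit 3, nat_lit 4, nat_lit 3, nat_lit 0, nat_lit 3, nat_lit 5, nat_lit 3, nat_lit 3, nat_lit 0, nat_lit 5] β)) H16.Suz.B) = 0 := by decide +kernel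
theorem y3_lt : allL (ltAll 7) y3_W = true := by decide +kernel
theorem yl3e_lt : allL (ltAll 6) yl3e_W = true := by decide +kernel
theorem yl3l0_e_0 : allZ (dent yl3l0 yl3e_P (nat_lit 1782)) (nat_lit 0) (nat_lit 31) = true := by decide +kernel
theorem yl3l0_h : 0 < yl3l0.n ∧ 0 < yl3l0.K ∧ yl3l0.Pt 0 < 1782 ∧ yl3l0.Q (yl3l0.Pt 0) = 0 := by decide +kernel
theorem yl3_f0 : (Nat.ble yl3l0.K 4 && Nat.ble (topK []) yl3l0.K && fixLetters yl3e_P (topK []) (yl3l0.Pt 0)) = true := by decide +kernel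
theorem yl3_c : chainCard [yl3l0] = 32 := by decide +kernel
theorem cAth_lt : allL (ltAll 7) cAth_W = true := by decide +kernel
theorem cAtl0_e_0 : allZ (dent cAtl0 cAth_P (nat_lit 1782)) (nat_lit 0) (nat_lit 1781) = true := by decide +kernel
theorem cAtl0_h : 0 < cAtl0.n ∧ 0 < cAtl0.K ∧ cAtl0.Pt 0 < 1782 ∧ cAtl0.Q (cAtl0.Pt 0) = 0 := by decide +kernel
theorem cAtl1_e_0 : allZ (dent cAtl1 cAth_P (nat_lit 1782)) (nat_lit 0) (nat_lit 415) = true := by decide +kernel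
theorem cAtl1_h : 0 < cAtl1.n ∧ 0 < cAtl1.K ∧ cAtl1.Pt 0 < 1782 ∧ cAtl1.Q (cAtl1.Pt 0) = 0 := by decide +kernel
theorem cAtl2_e_0 : allZ (dent cAtl2 cAth_P (nat_lit 1782)) (nat_lit 0) (nat_lit 99) = true := by decide +kernel
theorem cAtl2_h : 0 < cAtl2.n ∧ 0 < cAtl2.K ∧ cAtl2.Pt 0 < 1782 ∧ cAtl2.Q (cAtl2.Pt 0) = 0 := by decide +kernel
theorem cAtl3_e_0 : allZ (dent cAtl3 cAth_P (nat_lit 1782)) (nat_lit 0) (nat_lit 35) = true := by decide +kernel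
theorem cAtl3_h : 0 < cAtl3.n ∧ 0 < cAtl3.K ∧ cAtl3.Pt 0 < 1782 ∧ cAtl3.Q (cAtl3.Pt 0) = 0 := by decide +kernel
theorem cAtl4_e_0 : allZ (dent cAtl4 cAth_P (nat_lit 1782)) (nat_lit 0) (nat_lit 20) = true := by decide +kernel
theorem cAtl4_h : 0 < cAtl4.n ∧ 0 < cAtl4.K ∧ cAtl4.Pt 0 < 1782 ∧ cAtl4.Q (cAtl4.Pt 0) = 0 := by decide +kernel
theorem cAtl5_e_0 : allZ (dent cAtl5 cAth_P (nat_lit 1782)) (nat_lit 0) (nat_lit 1) = true := by decide +kernel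
theorem cAtl5_h : 0 < cAtl5.n ∧ 0 < cAtl5.K ∧ cAtl5.Pt 0 < 1782 ∧ cAtl5.Q (cAtl5.Pt 0) = 0 := by decide +kernel
theorem cAtl6_e_0 : allZ (dent cAtl6 cAth_P (nat_lit 1782)) (nat_lit 0) (nat_lit 1) = true := by decide +kernel
theorem cAtl6_h : 0 < cAtl6.n ∧ 0 < cAtl6.K ∧ cAtl6.Pt 0 < 1782 ∧ cAtl6.Q (cAtl6.Pt 0) = 0 := by decide +kernel
theorem cAtl7_e_0 : allZ (dent cAtl7 cAth_P (nat_lit 1782)) (nat_lit 0) (nat_lit 1) = true := by decide +kernel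
theorem cAtl7_h : 0 < cAtl7.n ∧ 0 < cAtl7.K ∧ cAtl7.Pt 0 < 1782 ∧ cAtl7.Q (cAtl7.Pt 0) = 0 := by decide +kernel
theorem cAt_f7 : (Nat.ble cAtl7.K 17 && Nat.ble (topK []) cAtl7.K && fixLetters cAth_P (topK []) (cAtl7.Pt 0)) = true := by decide +kernel
theorem cAt_f6 : (Nat.ble cAtl6.K 17 && Nat.ble (topK [cAtl7]) cAtl6.K && fixLetters cAth_P (topK [cAtl7]) (cAtl6.Pt 0)) = true := by decide +kernel
theorem cAt_f5 : (Nat.ble cAtl5.K 17 && Nat.ble (topK [cAtl6, cAtl7]) cAtl5.K && fixLetters cAth_P (topK [cAtl6, cAtl7]) (cAtl5.Pt 0)) = true := by decide +kernel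
theorem cAt_f4 : (Nat.ble cAtl4.K 17 && Nat.ble (topK [cAtl5, cAtl6, cAtl7]) cAtl4.K && fixLetters cAth_P (topK [cAtl5, cAtl6, cAtl7]) (cAtl4.Pt 0)) = true := by decide +kernel
theorem cAt_f3 : (Nat.ble cAtl3.K 17 && Nat.ble (topK [cAtl4, cAtl5, cAtl6, cAtl7]) cAtl3.K && fixLetters cAth_P (topK [cAtl4, cAtl5, cAtl6, cAtl7]) (cAtl3.Pt 0)) = true := by decide +kernel
theorem cAt_f2 : (Nat.ble cAtl2.K 17 && Nat.ble (topK [cAtl3, cAtl4, cAtl5, cAtl6, cAtl7]) cAtl2.K && fixLetters cAth_P (topK [cAtl3, cAtl4, cAtl5, cAtl6, cAtl7]) (cAtl2.Pt 0)) = true := by decide +kernel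
theorem cAt_f1 : (Nat.ble cAtl1.K 17 && Nat.ble (topK [cAtl2, cAtl3, cAtl4, cAtl5, cAtl6, cAtl7]) cAtl1.K && fixLetters cAth_P (topK [cAtl2, cAtl3, cAtl4, cAtl5, cAtl6, cAtl7]) (cAtl1.Pt 0)) = true := by decide +kernel
theorem cAt_f0 : (Nat.ble cAtl0.K 17 && Nat.ble (topK [cAtl1, cAtl2, cAtl3, cAtl4, cAtl5, cAtl6, cAtl7]) cAtl0.K && fixLetters cAth_P (topK [cAtl1, cAtl2, cAtl3, cAtl4, cAtl5, cAtl6, cAtl7]) (cAtl0.Pt 0)) = true := by decide +kernel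
theorem cAt_c : chainCard [cAtl0, cAtl1, cAtl2, cAtl3, cAtl4, cAtl5, cAtl6, cAtl7] = 448345497600 := by decide +kernel
theorem cAe_lt : allL (ltAll 7) cAe_W = true := by decide +kernel
theorem cAc7_e_0 : allZ (dent cAc7 cAe_P (nat_lit 1782)) (nat_lit 0) (nat_lit 1) = true := by decide +kernel
theorem cAc7_h : 0 < cAc7.n ∧ 0 < cAc7.K ∧ cAc7.Pt 0 < 1782 ∧ cAc7.Q (cAc7.Pt 0) = 0 := by decide +kernel
theorem cAtn0_0 : (Nat.ble cAtl7.K 17 && Nat.beq (ltAll 1782 [cAtl6.Pt 0, cAtl5.Pt 0, cAtl4.Pt 0, cAtl3.Pt 0, cAtl2.Pt 0, cAtl1.Pt 0, cAtl0.Pt 0]) 0 && kChk cAe_P (rl [nat_lit 7] H0.Sz.F_P) cAtn0.Kn 1 H16.Suz.B [cAtl6.Pt 0, cAtl5.Pt 0, cAtl4.Pt 0, cAtl3.Pt 0, cAtl2.Pt 0, cAtl1.Pt 0, cAtl0.Pt 0] && allL (ltAll 1) cAtn0.pre && planOK cAth_P (rl [nat_lit 7] H0.Sz.F_P) 1 (cAtl7.Pt 0) cAtn0.plan [cAtl7]) = true := by decide +kernel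
theorem cAtn0_1_0 : allZ (cAtn0.ent H16.Suz.P cAth_P (rl [nat_lit 7] H0.Sz.F_P) (rl [nat_lit 7] H0.Sz.F_P) cAe_P (nat_lit 7) (nat_lit 1) H16.Suz.B cAtl7 [] (memO cAc7)) (nat_lit 0) (nat_lit 2) = true := by decide +kernel
theorem cA_f7 : (Nat.ble cAc7.K 8 && Nat.ble (topK []) cAc7.K && Nat.beq (cAc7.Pt 0) (cAtl7.Pt 0) && Nat.beq (ltAll 1782 [cAtl6.Pt 0, cAtl5.Pt 0, cAtl4.Pt 0, cAtl3.Pt 0, cAtl2.Pt 0, cAtl1.Pt 0, cAtl0.Pt 0]) 0 && kChk cAe_P (rl [nat_lit 7] H0.Sz.F_P) cAc7.K 1 H16.Suz.B [cAtl6.Pt 0, cAtl5.Pt 0, cAtl4.Pt 0, cAtl3.Pt 0, cAtl2.Pt 0, cAtl1.Pt 0, cAtl0.Pt 0]) = true := by decide +kernel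
theorem cAc6_e_0 : allZ (dent cAc6 cAe_P (nat_lit 1782)) (nat_lit 0) (nat_lit 1) = true := by decide +kernel
theorem cAc6_h : 0 < cAc6.n ∧ 0 < cAc6.K ∧ cAc6.Pt 0 < 1782 ∧ cAc6.Q (cAc6.Pt 0) = 0 := by decide +kernel
theorem cAtn1_0 : (Nat.ble cAtl6.K 17 && Nat.beq (ltAll 1782 [cAtl5.Pt 0, cAtl4.Pt 0, cAtl3.Pt 0, cAtl2.Pt 0, cAtl1.Pt 0, cAtl0.Pt 0]) 0 && kChk cAe_P (rl [nat_lit 7] H0.Sz.F_P) cAtn1.Kn 1 H16.Suz.B [cAtl5.Pt 0, cAtl4.Pt 0, cAtl3.Pt 0, cAtl2.Pt 0, cAtl1.Pt 0, cAtl0.Pt 0] && allL (ltAll 1) cAtn1.pre && planOK cAth_P (rl [nat_lit 7] H0.Sz.F_P) 1 (cAtl6.Pt 0) cAtn1.plan [cAtl6, cAtl7]) = true := by decide +kernel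
theorem cAtn1_1_0 : allZ (cAtn1.ent H16.Suz.P cAth_P (rl [nat_lit 7] H0.Sz.F_P) (rl [nat_lit 7] H0.Sz.F_P) cAe_P (nat_lit 7) (nat_lit 1) H16.Suz.B cAtl6 [cAtl7] (memO cAc6)) (nat_lit 0) (nat_lit 2) = true := by decide +kernel
theorem cA_f6 : (Nat.ble cAc6.K 8 && Nat.ble (topK [cAc7]) cAc6.K && Nat.beq (cAc6.Pt 0) (cAtl6.Pt 0) && Nat.beq (ltAll 1782 [cAtl5.Pt 0, cAtl4.Pt 0, cAtl3.Pt 0, cAtl2.Pt 0, cAtl1.Pt 0, cAtl0.Pt 0]) 0 && kChk cAe_P (rl [nat_lit 7] H0.Sz.F_P) cAc6.K 1 H16.Suz.B [cAtl5.Pt 0, cAtl4.Pt 0, cAtl3.Pt 0, cAtl2.Pt 0, cAtl1.Pt 0, cAtl0.Pt 0]) = true := by decide +kernel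
theorem cAc5_e_0 : allZ (dent cAc5 cAe_P (nat_lit 1782)) (nat_lit 0) (nat_lit 1) = true := by decide +kernel
theorem cAc5_h : 0 < cAc5.n ∧ 0 < cAc5.K ∧ cAc5.Pt 0 < 1782 ∧ cAc5.Q (cAc5.Pt 0) = 0 := by decide +kernel
theorem cAtn2_0 : (Nat.ble cAtl5.K 17 && Nat.beq (ltAll 1782 [cAtl4.Pt 0, cAtl3.Pt 0, cAtl2.Pt 0, cAtl1.Pt 0, cAtl0.Pt 0]) 0 && kChk cAe_P (rl [nat_lit 7] H0.Sz.F_P) cAtn2.Kn 1 H16.Suz.B [cAtl4.Pt 0, cAtl3.Pt 0, cAtl2.Pt 0, cAtl1.Pt 0, cAtl0.Pt 0] && allL (ltAll 1) cAtn2.pre && planOK cAth_P (rl [nat_lit 7] H0.Sz.F_P) 1 (cAtl5.Pt 0) cAtn2.plan [cAtl5, cAtl6, cAtl7]) = true := by decide +kernel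
theorem cAtn2_1_0 : allZ (cAtn2.ent H16.Suz.P cAth_P (rl [nat_lit 7] H0.Sz.F_P) (rl [nat_lit 7] H0.Sz.F_P) cAe_P (nat_lit 7) (nat_lit 1) H16.Suz.B cAtl5 [cAtl6, cAtl7] (memO cAc5)) (nat_lit 0) (nat_lit 2) = true := by decide +kernel
theorem cA_f5 : (Nat.ble cAc5.K 8 && Nat.ble (topK [cAc6, cAc7]) cAc5.K && Nat.beq (cAc5.Pt 0) (cAtl5.Pt 0) && Nat.beq (ltAll 1782 [cAtl4.Pt 0, cAtl3.Pt 0, cAtl2.Pt 0, cAtl1.Pt 0, cAtl0.Pt 0]) 0 && kChk cAe_P (rl [nat_lit 7] H0.Sz.F_P) cAc5.K 1 H16.Suz.B [cAtl4.Pt 0, cAtl3.Pt 0, cAtl2.Pt 0, cAtl1.Pt 0, cAtl0.Pt 0]) = true := by decide +kernel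
theorem cAc4_e_0 : allZ (dent cAc4 cAe_P (nat_lit 1782)) (nat_lit 0) (nat_lit 20) = true := by decide +kernel
theorem cAc4_h : 0 < cAc4.n ∧ 0 < cAc4.K ∧ cAc4.Pt 0 < 1782 ∧ cAc4.Q (cAc4.Pt 0) = 0 := by decide +kernel
theorem cAtn3_0 : (Nat.ble cAtl4.K 17 && Nat.beq (ltAll 1782 [cAtl3.Pt 0, cAtl2.Pt 0, cAtl1.Pt 0, cAtl0.Pt 0]) 0 && kChk cAe_P (rl [nat_lit 7] H0.Sz.F_P) cAtn3.Kn 1 H16.Suz.B [cAtl3.Pt 0, cAtl2.Pt 0, cAtl1.Pt 0, cAtl0.Pt 0] && allL (ltAll 1) cAtn3.pre && planOK cAth_P (rl [nat_lit 7] H0.Sz.F_P) 1 (cAtl4.Pt 0) cAtn3.plan [cAtl4, cAtl5, cAtl6, cAtl7]) = true := by decide +kernel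
theorem cAtn3_1_0 : allZ (cAtn3.ent H16.Suz.P cAth_P (rl [nat_lit 7] H0.Sz.F_P) (rl [nat_lit 7] H0.Sz.F_P) cAe_P (nat_lit 7) (nat_lit 1) H16.Suz.B cAtl4 [cAtl5, cAtl6, cAtl7] (memO cAc4)) (nat_lit 0) (nat_lit 21) = true := by decide +kernel
theorem cA_f4 : (Nat.ble cAc4.K 8 && Nat.ble (topK [cAc5, cAc6, cAc7]) cAc4.K && Nat.beq (cAc4.Pt 0) (cAtl4.Pt 0) && Nat.beq (ltAll 1782 [cAtl3.Pt 0, cAtl2.Pt 0, cAtl1.Pt 0, cAtl0.Pt 0]) 0 && kChk cAe_P (rl [nat_lit 7] H0.Sz.F_P) cAc4.K 1 H16.Suz.B [cAtl3.Pt 0, cAtl2.Pt 0, cAtl1.Pt 0, cAtl0.Pt 0]) = true := by decide +kernel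
theorem cA_f3 : (Nat.ble cAtl3.K 17 && Nat.blt (nat_lit 1) 1782 && fixLetters cAth_P cAtl3.K (nat_lit 1) && Nat.beq (ltAll 1 [nat_lit 0, nat_lit 0]) 0 && Nat.beq (apW (rl [nat_lit 7] H0.Sz.F_P) [nat_lit 0, nat_lit 0] (nat_lit 1)) (cAtl3.Pt 0)) = true := by decide +kernel
theorem cA_f2 : (Nat.ble cAtl2.K 17 && Nat.blt (nat_lit 1) 1782 && fixLetters cAth_P cAtl2.K (nat_lit 1) && Nat.beq (ltAll 1 [nat_lit 0]) 0 && Nat.beq (apW (rl [nat_lit 7] H0.Sz.F_P) [nat_lit 0] (nat_lit 1)) (cAtl2.Pt 0)) = true := by decide +kernel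
theorem cAc1_e_0 : allZ (dent cAc1 cAe_P (nat_lit 1782)) (nat_lit 0) (nat_lit 359) = true := by decide +kernel
theorem cAc1_h : 0 < cAc1.n ∧ 0 < cAc1.K ∧ cAc1.Pt 0 < 1782 ∧ cAc1.Q (cAc1.Pt 0) = 0 := by decide +kernel
theorem cAtn4_0 : (Nat.ble cAtl1.K 17 && Nat.beq (ltAll 1782 [cAtl0.Pt 0]) 0 && kChk cAe_P (rl [nat_lit 7] H0.Sz.F_P) cAtn4.Kn 1 H16.Suz.B [cAtl0.Pt 0] && allL (ltAll 1) cAtn4.pre && planOK cAth_P (rl [nat_lit 7] H0.Sz.F_P) 1 (cAtl1.Pt 0) cAtn4.plan [cAtl1, cAtl2, cAtl3, cAtl4, cAtl5, cAtl6, cAtl7]) = true := by decide +kernel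
theorem cAtn4_1_0 : allZ (cAtn4.ent H16.Suz.P cAth_P (rl [nat_lit 7] H0.Sz.F_P) (rl [nat_lit 7] H0.Sz.F_P) cAe_P (nat_lit 7) (nat_lit 1) H16.Suz.B cAtl1 [cAtl2, cAtl3, cAtl4, cAtl5, cAtl6, cAtl7] (memO cAc1)) (nat_lit 0) (nat_lit 416) = true := by decide +kernel
theorem cA_f1 : (Nat.ble cAc1.K 8 && Nat.ble (topK [cAc4, cAc5, cAc6, cAc7]) cAc1.K && Nat.beq (cAc1.Pt 0) (cAtl1.Pt 0) && Nat.beq (ltAll 1782 [cAtl0.Pt 0]) 0 && kChk cAe_P (rl [nat_lit 7] H0.Sz.F_P) cAc1.K 1 H16.Suz.B [cAtl0.Pt 0]) = true := by decide +kernel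
theorem cAc0_e_0 : allZ (dent cAc0 cAe_P (nat_lit 1782)) (nat_lit 0) (nat_lit 161) = true := by decide +kernel
theorem cAc0_h : 0 < cAc0.n ∧ 0 < cAc0.K ∧ cAc0.Pt 0 < 1782 ∧ cAc0.Q (cAc0.Pt 0) = 0 := by decide +kernel
theorem cAtn5_0 : (Nat.ble cAtl0.K 17 && Nat.beq (ltAll 1782 []) 0 && kChk cAe_P (rl [nat_lit 7] H0.Sz.F_P) cAtn5.Kn 1 H16.Suz.B [] && allL (ltAll 1) cAtn5.pre && planOK cAth_P (rl [nat_lit 7] H0.Sz.F_P) 1 (cAtl0.Pt 0) cAtn5.plan [cAtl0, cAtl1, cAtl2, cAtl3, cAtl4, cAtl5, cAtl6, cAtl7]) = true := by decide +kernel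
theorem cAtn5_1_0 : allZ (cAtn5.ent H16.Suz.P cAth_P (rl [nat_lit 7] H0.Sz.F_P) (rl [nat_lit 7] H0.Sz.F_P) cAe_P (nat_lit 7) (nat_lit 1) H16.Suz.B cAtl0 [cAtl1, cAtl2, cAtl3, cAtl4, cAtl5, cAtl6, cAtl7] (memO cAc0)) (nat_lit 0) (nat_lit 1782) = true := by decide +kernel
theorem cA_f0 : (Nat.ble cAc0.K 8 && Nat.ble (topK [cAc1, cAc4, cAc5, cAc6, cAc7]) cAc0.K && Nat.beq (cAc0.Pt 0) (cAtl0.Pt 0) && Nat.beq (ltAll 1782 []) 0 && kChk cAe_P (rl [nat_lit 7] H0.Sz.F_P) cAc0.K 1 H16.Suz.B []) = true := by decide +kernel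
theorem cA_c : chainCard [cAc0, cAc1, cAc4, cAc5, cAc6, cAc7] = 9797760 ∧ topK [cAc0, cAc1, cAc4, cAc5, cAc6, cAc7] = 8 := by decide +kernel
theorem u_lt : allL (ltAll 7) u_W = true := by decide +kernel
theorem ua_k : allZ2 (fun a j => force a fun a => force j fun j => cjL (rl [nat_lit 7] H0.Sz.F_P) u_P 1 H16.Suz.B a [j] [j]) 12 1 = true := by decide +kernel
theorem uc_k : eqL u_P 12 H16.Suz.B [nat_lit 11, nat_lit 10] [nat_lit 10, nat_lit 11, nat_lit 9] = 0 := by decide +kernel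
theorem ur_k : allL (fun W => orZ (eqL u_P 12 H16.Suz.B W []) (orZ (eqL u_P 12 H16.Suz.B W [9]) (eqL u_P 12 H16.Suz.B W [9, 9]))) H16.U43.Rl = true := by decide +kernel
theorem un_k : 0 < 1782 ∧ ltAll 12 [nat_lit 8, nat_lit 2] = 0 ∧ ltAll 12 [nat_lit 2, nat_lit 8] = 0 ∧ apW u_P [nat_lit 8, nat_lit 2] 0 ≠ apW u_P [nat_lit 2, nat_lit 8] 0 := by decide +kernel
theorem v_lt : allL (ltAll 7) v_W = true := by decide +kernel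
theorem v_m_0_0 : allZ (matEnt (wdsP H16.Suz.P v_W) v_P (nat_lit 0)) (nat_lit 0) (nat_lit 1782) = true := by decide +kernel
theorem v_m_1_0 : allZ (matEnt (wdsP H16.Suz.P v_W) v_P (nat_lit 1)) (nat_lit 0) (nat_lit 1782) = true := by decide +kernel
theorem v_m_2_0 : allZ (matEnt (wdsP H16.Suz.P v_W) v_P (nat_lit 2)) (nat_lit 0) (nat_lit 1782) = true := by decide +kernel
theorem v_m_3_0 : allZ (matEnt (wdsP H16.Suz.P v_W) v_P (nat_lit 3)) (nat_lit 0) (nat_lit 1782) = true := by decide +kernel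
theorem v_m_4_0 : allZ (matEnt (wdsP H16.Suz.P v_W) v_P (nat_lit 4)) (nat_lit 0) (nat_lit 1782) = true := by decide +kernel
theorem v_m_5_0 : allZ (matEnt (wdsP H16.Suz.P v_W) v_P (nat_lit 5)) (nat_lit 0) (nat_lit 1782) = true := by decide +kernel
theorem v_m_6_0 : allZ (matEnt (wdsP H16.Suz.P v_W) v_P (nat_lit 6)) (nat_lit 0) (nat_lit 1782) = true := by decide +kernel
theorem v_m_7_0 : allZ (matEnt (wdsP H16.Suz.P v_W) v_P (nat_lit 7)) (nat_lit 0) (nat_lit 1782) = true := by decide +kernel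
theorem v_m_8_0 : allZ (matEnt (wdsP H16.Suz.P v_W) v_P (nat_lit 8)) (nat_lit 0) (nat_lit 1782) = true := by decide +kernel
theorem v_m_9_0 : allZ (matEnt (wdsP H16.Suz.P v_W) v_P (nat_lit 9)) (nat_lit 0) (nat_lit 1782) = true := by decide +kernel
theorem v_m_10_0 : allZ (matEnt (wdsP H16.Suz.P v_W) v_P (nat_lit 10)) (nat_lit 0) (nat_lit 1782) = true := by decide +kernel
theorem v_m_11_0 : allZ (matEnt (wdsP H16.Suz.P v_W) v_P (nat_lit 11)) (nat_lit 0) (nat_lit 1782) = true := by decide +kernel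
theorem vp_p : allZ2 (pcEnt (rl [nat_lit 7, nat_lit 8, nat_lit 9, nat_lit 10, nat_lit 11] v_P) (nat_lit 3) H16.Suz.B vpC) 5 5 = true := by decide +kernel
theorem vp_e : allL (ltAll 5) vpe = true := by decide +kernel
theorem vpl0_e_0 : allZ (dent vpl0 (wdsP (rl [nat_lit 7, nat_lit 8, nat_lit 9, nat_lit 10, nat_lit 11] v_P) vpe) (nat_lit 1782)) (nat_lit 0) (nat_lit 80) = true := by decide +kernel
theorem vpl0_h : 0 < vpl0.n ∧ 0 < vpl0.K ∧ vpl0.Pt 0 < 1782 ∧ vpl0.Q (vpl0.Pt 0) = 0 := by decide +kernel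
theorem vpl1_e_0 : allZ (dent vpl1 (wdsP (rl [nat_lit 7, nat_lit 8, nat_lit 9, nat_lit 10, nat_lit 11] v_P) vpe) (nat_lit 1782)) (nat_lit 0) (nat_lit 2) = true := by decide +kernel
theorem vpl1_h : 0 < vpl1.n ∧ 0 < vpl1.K ∧ vpl1.Pt 0 < 1782 ∧ vpl1.Q (vpl1.Pt 0) = 0 := by decide +kernel
theorem vp_f1 : (Nat.ble vpl1.K 10 && Nat.ble (topK []) vpl1.K && fixLetters (wdsP (rl [nat_lit 7, nat_lit 8, nat_lit 9, nat_lit 10, nat_lit 11] v_P) vpe) (topK []) (vpl1.Pt 0)) = true := by decide +kernel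
theorem vp_f0 : (Nat.ble vpl0.K 10 && Nat.ble (topK [vpl1]) vpl0.K && fixLetters (wdsP (rl [nat_lit 7, nat_lit 8, nat_lit 9, nat_lit 10, nat_lit 11] v_P) vpe) (topK [vpl1]) (vpl0.Pt 0)) = true := by decide +kernel
theorem vp_c : chainCard [vpl0, vpl1] = 3 ^ 5 := by decide +kernel
theorem vc_k : allZ2 (fun a j => force a fun a => force j fun j => cjL (rl [nat_lit 7, nat_lit 8, nat_lit 9, nat_lit 10, nat_lit 11] v_P) (rl [nat_lit 7, nat_lit 8, nat_lit 9, nat_lit 10, nat_lit 11] v_P) 5 H16.Suz.B a [j] [j]) 5 5 = true := by decide +kernel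
theorem vw_k : allZ (fun k => force k fun k => fixL (rl [nat_lit 7, nat_lit 8, nat_lit 9, nat_lit 10, nat_lit 11] v_P) 5 H16.Suz.B (List.replicate 3 k)) 0 5 = true := by decide +kernel
theorem vn_k : allZ2 (fun a j => force a fun a => cjL (rl [nat_lit 7, nat_lit 8, nat_lit 9, nat_lit 10, nat_lit 11] v_P) v_P 5 H16.Suz.B a [j] (nth [] (nth [] [[[nat_lit 4, nat_lit 4],
  [nat_lit 1, nat_lit 1],
  [nat_lit 0, nat_lit 1, nat_lit 3, nat_lit 4],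
  [nat_lit 3],
  [nat_lit 0, nat_lit 0, nat_lit 1, nat_lit 2, nat_lit 3, nat_lit 4, nat_lit 4]], [[nat_lit 0, nat_lit 1, nat_lit 2, nat_lit 3, nat_lit 3],
  [nat_lit 1, nat_lit 1],
  [nat_lit 1, nat_lit 1, nat_lit 2, nat_lit 3, nat_lit 4],
  [nat_lit 3],
  [nat_lit 0, nat_lit 0]], [[nat_lit 1, nat_lit 2, nat_lit 2, nat_lit 3, nat_lit 3, nat_lit 4, nat_lit 4],
  [nat_lit 1, nat_lit 1],
  [nat_lit 4],
  [nat_lit 3, nat_lit 3],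
  [nat_lit 0, nat_lit 0, nat_lit 2, nat_lit 3, nat_lit 3, nat_lit 4]], [[nat_lit 0, nat_lit 0, nat_lit 1, nat_lit 1, nat_lit 3, nat_lit 3, nat_lit 4, nat_lit 4],
  [nat_lit 1, nat_lit 1],
  [nat_lit 0, nat_lit 0, nat_lit 1, nat_lit 1, nat_lit 2, nat_lit 2, nat_lit 3],
  [nat_lit 3, nat_lit 3],
  [nat_lit 2]], [[nat_lit 4, nat_lit 4],
  [nat_lit 1],
  [nat_lit 2],
  [nat_lit 0, nat_lit 0, nat_lit 2, nat_lit 3, nat_lit 3, nat_lit 4],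
  [nat_lit 0, nat_lit 0]], [[nat_lit 1, nat_lit 1],
  [nat_lit 0, nat_lit 0],
  [nat_lit 4, nat_lit 4],
  [nat_lit 3],
  [nat_lit 2, nat_lit 2]], [[nat_lit 1, nat_lit 2, nat_lit 2, nat_lit 3, nat_lit 3, nat_lit 4, nat_lit 4],
  [nat_lit 1],
  [nat_lit 0, nat_lit 1, nat_lit 1, nat_lit 2, nat_lit 4, nat_lit 4],
  [nat_lit 3],
  [nat_lit 0, nat_lit 1, nat_lit 1, nat_lit 2, nat_lit 2, nat_lit 3, nat_lit 3, nat_lit 4]], [[nat_lit 0],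
  [nat_lit 1],
  [nat_lit 2],
  [nat_lit 3],
  [nat_lit 4]], [[nat_lit 0],
  [nat_lit 1],
  [nat_lit 2],
  [nat_lit 3],
  [nat_lit 4]], [[nat_lit 0],
  [nat_lit 1],
  [nat_lit 2],
  [nat_lit 3],
  [nat_lit 4]], [[nat_lit 0],
  [nat_lit 1],
  [nat_lit 2],
  [nat_lit 3],
  [nat_lit 4]], [[nat_lit 0],
  [nat_lit 1],
  [nat_lit 2],
  [nat_lit 3],
  [nat_lit 4]]] a) j)) 12 5 = true := by decide +kernel
theorem vr_k : allL (fixL v_P 12 H16.Suz.B) H15.MM11.Rl = true := by decide +kernel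
theorem vm_k : 0 < 1782 ∧ ltAll 12 [nat_lit 4, nat_lit 7] = 0 ∧ ltAll 12 [nat_lit 7, nat_lit 4] = 0 ∧ apW v_P [nat_lit 4, nat_lit 7] 0 ≠ apW v_P [nat_lit 7, nat_lit 4] 0 := by decide +kernel
theorem vo_e_0 : allZ (H0.Fi.orbEnt (rl [nat_lit 7, nat_lit 8, nat_lit 9, nat_lit 10, nat_lit 11] v_P) v_P (nat_lit 3) (nat_lit 5) (nat_lit 7) H16.Suz.B voD voL vor voq voR) (nat_lit 0) (nat_lit 243) = true := by decide +kernel
theorem vo_q : allZ (fun c => Nat.sub (Nat.succ (voq c)) 2) 0 243 = true := by decide +kernel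
theorem vCth_lt : allL (ltAll 7) vCth_W = true := by decide +kernel
theorem vCtl0_e_0 : allZ (dent vCtl0 vCth_P (nat_lit 1782)) (nat_lit 0) (nat_lit 1781) = true := by decide +kernel
theorem vCtl0_h : 0 < vCtl0.n ∧ 0 < vCtl0.K ∧ vCtl0.Pt 0 < 1782 ∧ vCtl0.Q (vCtl0.Pt 0) = 0 := by decide +kernel
theorem vCtl1_e_0 : allZ (dent vCtl1 vCth_P (nat_lit 1782)) (nat_lit 0) (nat_lit 415) = true := by decide +kernel
theorem vCtl1_h : 0 < vCtl1.n ∧ 0 < vCtl1.K ∧ vCtl1.Pt 0 < 1782 ∧ vCtl1.Q (vCtl1.Pt 0) = 0 := by decide +kernel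
theorem vCtl2_e_0 : allZ (dent vCtl2 vCth_P (nat_lit 1782)) (nat_lit 0) (nat_lit 99) = true := by decide +kernel
theorem vCtl2_h : 0 < vCtl2.n ∧ 0 < vCtl2.K ∧ vCtl2.Pt 0 < 1782 ∧ vCtl2.Q (vCtl2.Pt 0) = 0 := by decide +kernel
theorem vCtl3_e_0 : allZ (dent vCtl3 vCth_P (nat_lit 1782)) (nat_lit 0) (nat_lit 251) = true := by decide +kernel
theorem vCtl3_h : 0 < vCtl3.n ∧ 0 < vCtl3.K ∧ vCtl3.Pt 0 < 1782 ∧ vCtl3.Q (vCtl3.Pt 0) = 0 := by decide +kernel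
theorem vCtl4_e_0 : allZ (dent vCtl4 vCth_P (nat_lit 1782)) (nat_lit 0) (nat_lit 7) = true := by decide +kernel
theorem vCtl4_h : 0 < vCtl4.n ∧ 0 < vCtl4.K ∧ vCtl4.Pt 0 < 1782 ∧ vCtl4.Q (vCtl4.Pt 0) = 0 := by decide +kernel
theorem vCtl5_e_0 : allZ (dent vCtl5 vCth_P (nat_lit 1782)) (nat_lit 0) (nat_lit 2) = true := by decide +kernel
theorem vCtl5_h : 0 < vCtl5.n ∧ 0 < vCtl5.K ∧ vCtl5.Pt 0 < 1782 ∧ vCtl5.Q (vCtl5.Pt 0) = 0 := by decide +kernel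
theorem vCt_f5 : (Nat.ble vCtl5.K 15 && Nat.ble (topK []) vCtl5.K && fixLetters vCth_P (topK []) (vCtl5.Pt 0)) = true := by decide +kernel
theorem vCt_f4 : (Nat.ble vCtl4.K 15 && Nat.ble (topK [vCtl5]) vCtl4.K && fixLetters vCth_P (topK [vCtl5]) (vCtl4.Pt 0)) = true := by decide +kernel
theorem vCt_f3 : (Nat.ble vCtl3.K 15 && Nat.ble (topK [vCtl4, vCtl5]) vCtl3.K && fixLetters vCth_P (topK [vCtl4, vCtl5]) (vCtl3.Pt 0)) = true := by decide +kernel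
theorem vCt_f2 : (Nat.ble vCtl2.K 15 && Nat.ble (topK [vCtl3, vCtl4, vCtl5]) vCtl2.K && fixLetters vCth_P (topK [vCtl3, vCtl4, vCtl5]) (vCtl2.Pt 0)) = true := by decide +kernel
theorem vCt_f1 : (Nat.ble vCtl1.K 15 && Nat.ble (topK [vCtl2, vCtl3, vCtl4, vCtl5]) vCtl1.K && fixLetters vCth_P (topK [vCtl2, vCtl3, vCtl4, vCtl5]) (vCtl1.Pt 0)) = true := by decide +kernel
theorem vCt_f0 : (Nat.ble vCtl0.K 15 && Nat.ble (topK [vCtl1, vCtl2, vCtl3, vCtl4, vCtl5]) vCtl0.K && fixLetters vCth_P (topK [vCtl1, vCtl2, vCtl3, vCtl4, vCtl5]) (vCtl0.Pt 0)) = true := by decide +kernel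
theorem vCt_c : chainCard [vCtl0, vCtl1, vCtl2, vCtl3, vCtl4, vCtl5] = 448345497600 := by decide +kernel
theorem vCe_lt : allL (ltAll 7) vCe_W = true := by decide +kernel
theorem vCc5_e_0 : allZ (dent vCc5 vCe_P (nat_lit 1782)) (nat_lit 0) (nat_lit 2) = true := by decide +kernel
theorem vCc5_h : 0 < vCc5.n ∧ 0 < vCc5.K ∧ vCc5.Pt 0 < 1782 ∧ vCc5.Q (vCc5.Pt 0) = 0 := by decide +kernel
theorem vCtn0_0 : (Nat.ble vCtl5.K 15 && Nat.beq (ltAll 1782 [vCtl4.Pt 0, vCtl3.Pt 0, vCtl2.Pt 0, vCtl1.Pt 0, vCtl0.Pt 0]) 0 && kChk vCe_P (rl [nat_lit 7, nat_lit 8, nat_lit 9, nat_lit 10, nat_lit 11] v_P) vCtn0.Kn 3 H16.Suz.B [vCtl4.Pt 0, vCtl3.Pt 0, vCtl2.Pt 0, vCtl1.Pt 0, vCtl0.Pt 0] && allL (ltAll 3) vCtn0.pre && planOK vCth_P (rl [nat_lit 7, nat_lit 8, nat_lit 9, nat_lit 10, nat_lit 11] v_P) 3 (vCtl5.Pt 0) vCtn0.plan [vCtl5]) = true := by decide +kernel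
theorem vCtn0_1_0 : allZ (vCtn0.ent H16.Suz.P vCth_P (rl [nat_lit 7, nat_lit 8, nat_lit 9, nat_lit 10, nat_lit 11] v_P) (rl [nat_lit 7, nat_lit 8, nat_lit 9, nat_lit 10, nat_lit 11] v_P) vCe_P (nat_lit 7) (nat_lit 3) H16.Suz.B vCtl5 [] (memO vCc5)) (nat_lit 0) (nat_lit 3) = true := by decide +kernel
theorem vC_f5 : (Nat.ble vCc5.K 7 && Nat.ble (topK []) vCc5.K && Nat.beq (vCc5.Pt 0) (vCtl5.Pt 0) && Nat.beq (ltAll 1782 [vCtl4.Pt 0, vCtl3.Pt 0, vCtl2.Pt 0, vCtl1.Pt 0, vCtl0.Pt 0]) 0 && kChk vCe_P (rl [nat_lit 7, nat_lit 8, nat_lit 9, nat_lit 10, nat_lit 11] v_P) vCc5.K 3 H16.Suz.B [vCtl4.Pt 0, vCtl3.Pt 0, vCtl2.Pt 0, vCtl1.Pt 0, vCtl0.Pt 0]) = true := by decide +kernel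
theorem vC_f4 : (Nat.ble vCtl4.K 15 && Nat.blt (nat_lit 1) 1782 && fixLetters vCth_P vCtl4.K (nat_lit 1) && Nat.beq (ltAll 3 [nat_lit 2]) 0 && Nat.beq (apW (rl [nat_lit 7, nat_lit 8, nat_lit 9, nat_lit 10, nat_lit 11] v_P) [nat_lit 2] (nat_lit 1)) (vCtl4.Pt 0)) = true := by decide +kernel
theorem vC_f3 : (Nat.ble vCtl3.K 15 && Nat.blt (nat_lit 1) 1782 && fixLetters vCth_P vCtl3.K (nat_lit 1) && Nat.beq (ltAll 3 [nat_lit 0]) 0 && Nat.beq (apW (rl [nat_lit 7, nat_lit 8, nat_lit 9, nat_lit 10, nat_lit 11] v_P) [nat_lit 0] (nat_lit 1)) (vCtl3.Pt 0)) = true := by decide +kernel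
theorem vC_f2 : (Nat.ble vCtl2.K 15 && Nat.blt (nat_lit 1) 1782 && fixLetters vCth_P vCtl2.K (nat_lit 1) && Nat.beq (ltAll 3 [nat_lit 1, nat_lit 1]) 0 && Nat.beq (apW (rl [nat_lit 7, nat_lit 8, nat_lit 9, nat_lit 10, nat_lit 11] v_P) [nat_lit 1, nat_lit 1] (nat_lit 1)) (vCtl2.Pt 0)) = true := by decide +kernel
theorem vC_f1 : (Nat.ble vCtl1.K 15 && Nat.blt (nat_lit 1) 1782 && fixLetters vCth_P vCtl1.K (nat_lit 1) && Nat.beq (ltAll 3 [nat_lit 1]) 0 && Nat.beq (apW (rl [nat_lit 7, nat_lit 8, nat_lit 9, nat_lit 10, nat_lit 11] v_P) [nat_lit 1] (nat_lit 1)) (vCtl1.Pt 0)) = true := by decide +kernel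
theorem vCc0_e_0 : allZ (dent vCc0 vCe_P (nat_lit 1782)) (nat_lit 0) (nat_lit 161) = true := by decide +kernel
theorem vCc0_h : 0 < vCc0.n ∧ 0 < vCc0.K ∧ vCc0.Pt 0 < 1782 ∧ vCc0.Q (vCc0.Pt 0) = 0 := by decide +kernel
theorem vCtn1_0 : (Nat.ble vCtl0.K 15 && Nat.beq (ltAll 1782 []) 0 && kChk vCe_P (rl [nat_lit 7, nat_lit 8, nat_lit 9, nat_lit 10, nat_lit 11] v_P) vCtn1.Kn 3 H16.Suz.B [] && allL (ltAll 3) vCtn1.pre && planOK vCth_P (rl [nat_lit 7, nat_lit 8, nat_lit 9, nat_lit 10, nat_lit 11] v_P) 3 (vCtl0.Pt 0) vCtn1.plan [vCtl0, vCtl1, vCtl2, vCtl3, vCtl4, vCtl5]) = true := by decide +kernel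
theorem vCtn1_1_0 : allZ (vCtn1.ent H16.Suz.P vCth_P (rl [nat_lit 7, nat_lit 8, nat_lit 9, nat_lit 10, nat_lit 11] v_P) (rl [nat_lit 7, nat_lit 8, nat_lit 9, nat_lit 10, nat_lit 11] v_P) vCe_P (nat_lit 7) (nat_lit 3) H16.Suz.B vCtl0 [vCtl1, vCtl2, vCtl3, vCtl4, vCtl5] (memO vCc0)) (nat_lit 0) (nat_lit 1782) = true := by decide +kernel
theorem vC_f0 : (Nat.ble vCc0.K 7 && Nat.ble (topK [vCc5]) vCc0.K && Nat.beq (vCc0.Pt 0) (vCtl0.Pt 0) && Nat.beq (ltAll 1782 []) 0 && kChk vCe_P (rl [nat_lit 7, nat_lit 8, nat_lit 9, nat_lit 10, nat_lit 11] v_P) vCc0.K 3 H16.Suz.B []) = true := by decide +kernel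
theorem vC_c : chainCard [vCc0, vCc5] = 486 ∧ topK [vCc0, vCc5] = 7 := by decide +kernel
theorem vy_lt : allL (ltAll 5) vy_W = true := by decide +kernel
theorem vCtr2k_lt : allL (ltAll 7) vCtr2k_W = true := by decide +kernel
theorem vCtn2_0 : (Nat.ble vCtl0.K 15 && Nat.beq (ltAll 1782 []) 0 && kChk vCtr2k_P vy_P vCtn2.Kn 3 H16.Suz.B [] && allL (ltAll 3) vCtn2.pre && planOK vCth_P (rl [nat_lit 7, nat_lit 8, nat_lit 9, nat_lit 10, nat_lit 11] v_P) 3 (vCtl0.Pt 0) vCtn2.plan [vCtl0, vCtl1, vCtl2, vCtl3, vCtl4, vCtl5]) = true := by decide +kernel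
theorem vCtn2_1_0 : allZ (vCtn2.ent H16.Suz.P vCth_P (rl [nat_lit 7, nat_lit 8, nat_lit 9, nat_lit 10, nat_lit 11] v_P) vy_P vCtr2k_P (nat_lit 7) (nat_lit 3) H16.Suz.B vCtl0 [vCtl1, vCtl2, vCtl3, vCtl4, vCtl5] (fun _ => nat_lit 1)) (nat_lit 0) (nat_lit 1782) = true := by decide +kernel
theorem vK_lt : allL (ltAll 12) vK_W = true := by decide +kernel
theorem vL_k : allZ2 (fun a j => force a fun a => force j fun j => cjL (rl [nat_lit 7, nat_lit 8, nat_lit 9, nat_lit 10, nat_lit 11] v_P) vK_P 2 H16.Suz.B a [j] [j]) 3 2 = true := by decide +kernel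
theorem vs_e_0 : allZ (H0.Fi.orbEnt (rl [nat_lit 7, nat_lit 8, nat_lit 9, nat_lit 10, nat_lit 11] v_P) vK_P (nat_lit 3) (nat_lit 5) (nat_lit 3) H16.Suz.B vsD vsL vsr vsq vsR) (nat_lit 0) (nat_lit 243) = true := by decide +kernel
theorem vs_q : allZ (fun c => Nat.sub (Nat.succ (vsq c)) 30) 0 243 = true := by decide +kernel
theorem vb_lt : allL (ltAll 5) vb_W = true := by decide +kernel
theorem cAtr6k_lt : allL (ltAll 7) cAtr6k_W = true := by decide +kernel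
theorem cAtn6_0 : (Nat.ble cAtl0.K 17 && Nat.beq (ltAll 1782 []) 0 && kChk cAtr6k_P vb_P cAtn6.Kn 1 H16.Suz.B [] && allL (ltAll 1) cAtn6.pre && planOK cAth_P (rl [nat_lit 7] H0.Sz.F_P) 1 (cAtl0.Pt 0) cAtn6.plan [cAtl0, cAtl1, cAtl2, cAtl3, cAtl4, cAtl5, cAtl6, cAtl7]) = true := by decide +kernel
theorem cAtn6_1_0 : allZ (cAtn6.ent H16.Suz.P cAth_P (rl [nat_lit 7] H0.Sz.F_P) vb_P cAtr6k_P (nat_lit 7) (nat_lit 1) H16.Suz.B cAtl0 [cAtl1, cAtl2, cAtl3, cAtl4, cAtl5, cAtl6, cAtl7] (fun _ => nat_lit 1)) (nat_lit 0) (nat_lit 1782) = true := by decide +kernel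
theorem vk : (voq 1 = 0 ∧ voq 3 = 0 ∧ voq 9 = 0) ∧ Nat.count (fun c => 3 ^ 0 ≤ c ∧ (voq c == 0) = true) (3 ^ 5) = 22 ∧ Nat.count (fun c => 3 ^ 1 ≤ c ∧ (voq c == 0) = true) (3 ^ 5) = 20 ∧ Nat.count (fun c => 3 ^ 2 ≤ c ∧ (voq c == 0 && vsq c != 1) = true) (3 ^ 5) = 9 := by decide +kernel
theorem w_lt : allL (ltAll 7) w_W = true := by decide +kernel
theorem wp_r_a : allZ2 (resEnt w_P wpP wpE wpI (nat_lit 1782) (nat_lit 35)) (nat_lit 1) (nat_lit 35) = true := by decide +kernel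
theorem wp_b : neL H16.Suz.B (wpB.map wpE) = 0 ∧ ltAll 35 wpB = 0 := by decide +kernel
theorem wp_p : allZ2 (pcEnt wpP (nat_lit 7) wpB wpC) 1 1 = true := by decide +kernel
theorem wp_e : allL (ltAll 1) wpe = true := by decide +kernel
theorem wpl0_e_0 : allZ (dent wpl0 (wdsP wpP wpe) (nat_lit 35)) (nat_lit 0) (nat_lit 6) = true := by decide +kernel
theorem wpl0_h : 0 < wpl0.n ∧ 0 < wpl0.K ∧ wpl0.Pt 0 < 35 ∧ wpl0.Q (wpl0.Pt 0) = 0 := by decide +kernel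
theorem wp_f0 : (Nat.ble wpl0.K 1 && Nat.ble (topK []) wpl0.K && fixLetters (wdsP wpP wpe) (topK []) (wpl0.Pt 0)) = true := by decide +kernel
theorem wp_c : chainCard [wpl0] = 7 ^ 1 ∧ ¬ 7 ^ (1 + 1) ∣ 448345497600 := by decide +kernel
theorem wCth_lt : allL (ltAll 7) wCth_W = true := by decide +kernel
theorem wCtl0_e_0 : allZ (dent wCtl0 wCth_P (nat_lit 1782)) (nat_lit 0) (nat_lit 1781) = true := by decide +kernel
theorem wCtl0_h : 0 < wCtl0.n ∧ 0 < wCtl0.K ∧ wCtl0.Pt 0 < 1782 ∧ wCtl0.Q (wCtl0.Pt 0) = 0 := by decide +kernel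
theorem wCtl1_e_0 : allZ (dent wCtl1 wCth_P (nat_lit 1782)) (nat_lit 0) (nat_lit 415) = true := by decide +kernel
theorem wCtl1_h : 0 < wCtl1.n ∧ 0 < wCtl1.K ∧ wCtl1.Pt 0 < 1782 ∧ wCtl1.Q (wCtl1.Pt 0) = 0 := by decide +kernel
theorem wCtl2_e_0 : allZ (dent wCtl2 wCth_P (nat_lit 1782)) (nat_lit 0) (nat_lit 99) = true := by decide +kernel
theorem wCtl2_h : 0 < wCtl2.n ∧ 0 < wCtl2.K ∧ wCtl2.Pt 0 < 1782 ∧ wCtl2.Q (wCtl2.Pt 0) = 0 := by decide +kernel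
theorem wCtl3_e_0 : allZ (dent wCtl3 wCth_P (nat_lit 1782)) (nat_lit 0) (nat_lit 62) = true := by decide +kernel
theorem wCtl3_h : 0 < wCtl3.n ∧ 0 < wCtl3.K ∧ wCtl3.Pt 0 < 1782 ∧ wCtl3.Q (wCtl3.Pt 0) = 0 := by decide +kernel
theorem wCtl4_e_0 : allZ (dent wCtl4 wCth_P (nat_lit 1782)) (nat_lit 0) (nat_lit 31) = true := by decide +kernel
theorem wCtl4_h : 0 < wCtl4.n ∧ 0 < wCtl4.K ∧ wCtl4.Pt 0 < 1782 ∧ wCtl4.Q (wCtl4.Pt 0) = 0 := by decide +kernel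
theorem wCtl5_e_0 : allZ (dent wCtl5 wCth_P (nat_lit 1782)) (nat_lit 0) (nat_lit 2) = true := by decide +kernel
theorem wCtl5_h : 0 < wCtl5.n ∧ 0 < wCtl5.K ∧ wCtl5.Pt 0 < 1782 ∧ wCtl5.Q (wCtl5.Pt 0) = 0 := by decide +kernel
theorem wCt_f5 : (Nat.ble wCtl5.K 16 && Nat.ble (topK []) wCtl5.K && fixLetters wCth_P (topK []) (wCtl5.Pt 0)) = true := by decide +kernel
theorem wCt_f4 : (Nat.ble wCtl4.K 16 && Nat.ble (topK [wCtl5]) wCtl4.K && fixLetters wCth_P (topK [wCtl5]) (wCtl4.Pt 0)) = true := by decide +kernel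
theorem wCt_f3 : (Nat.ble wCtl3.K 16 && Nat.ble (topK [wCtl4, wCtl5]) wCtl3.K && fixLetters wCth_P (topK [wCtl4, wCtl5]) (wCtl3.Pt 0)) = true := by decide +kernel
theorem wCt_f2 : (Nat.ble wCtl2.K 16 && Nat.ble (topK [wCtl3, wCtl4, wCtl5]) wCtl2.K && fixLetters wCth_P (topK [wCtl3, wCtl4, wCtl5]) (wCtl2.Pt 0)) = true := by decide +kernel
theorem wCt_f1 : (Nat.ble wCtl1.K 16 && Nat.ble (topK [wCtl2, wCtl3, wCtl4, wCtl5]) wCtl1.K && fixLetters wCth_P (topK [wCtl2, wCtl3, wCtl4, wCtl5]) (wCtl1.Pt 0)) = true := by decide +kernel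
theorem wCt_f0 : (Nat.ble wCtl0.K 16 && Nat.ble (topK [wCtl1, wCtl2, wCtl3, wCtl4, wCtl5]) wCtl0.K && fixLetters wCth_P (topK [wCtl1, wCtl2, wCtl3, wCtl4, wCtl5]) (wCtl0.Pt 0)) = true := by decide +kernel
theorem wCt_c : chainCard [wCtl0, wCtl1, wCtl2, wCtl3, wCtl4, wCtl5] = 448345497600 := by decide +kernel
theorem wCe_lt : allL (ltAll 7) wCe_W = true := by decide +kernel
theorem wC_f5 : (Nat.ble wCtl5.K 16 && Nat.blt (nat_lit 8) 1782 && fixLetters wCth_P wCtl5.K (nat_lit 8) && Nat.beq (ltAll 1 [nat_lit 0, nat_lit 0, nat_lit 0]) 0 && Nat.beq (apW w_P [nat_lit 0, nat_lit 0, nat_lit 0] (nat_lit 8)) (wCtl5.Pt 0)) = true := by decide +kernel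
theorem wC_f4 : (Nat.ble wCtl4.K 16 && Nat.blt (nat_lit 8) 1782 && fixLetters wCth_P wCtl4.K (nat_lit 8) && Nat.beq (ltAll 1 [nat_lit 0, nat_lit 0]) 0 && Nat.beq (apW w_P [nat_lit 0, nat_lit 0] (nat_lit 8)) (wCtl4.Pt 0)) = true := by decide +kernel
theorem wC_f3 : (Nat.ble wCtl3.K 16 && Nat.blt (nat_lit 8) 1782 && fixLetters wCth_P wCtl3.K (nat_lit 8) && Nat.beq (ltAll 1 [nat_lit 0]) 0 && Nat.beq (apW w_P [nat_lit 0] (nat_lit 8)) (wCtl3.Pt 0)) = true := by decide +kernel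
theorem wCc2_e_0 : allZ (dent wCc2 wCe_P (nat_lit 1782)) (nat_lit 0) (nat_lit 6) = true := by decide +kernel
theorem wCc2_h : 0 < wCc2.n ∧ 0 < wCc2.K ∧ wCc2.Pt 0 < 1782 ∧ wCc2.Q (wCc2.Pt 0) = 0 := by decide +kernel
theorem wCtn0_0 : (Nat.ble wCtl2.K 16 && Nat.beq (ltAll 1782 [wCtl1.Pt 0, wCtl0.Pt 0]) 0 && kChk wCe_P w_P wCtn0.Kn 1 H16.Suz.B [wCtl1.Pt 0, wCtl0.Pt 0] && allL (ltAll 1) wCtn0.pre && planOK wCth_P w_P 1 (wCtl2.Pt 0) wCtn0.plan [wCtl2, wCtl3, wCtl4, wCtl5]) = true := by decide +kernel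
theorem wCtn0_1_0 : allZ (wCtn0.ent H16.Suz.P wCth_P w_P w_P wCe_P (nat_lit 7) (nat_lit 1) H16.Suz.B wCtl2 [wCtl3, wCtl4, wCtl5] (memO wCc2)) (nat_lit 0) (nat_lit 100) = true := by decide +kernel
theorem wC_f2 : (Nat.ble wCc2.K 3 && Nat.ble (topK []) wCc2.K && Nat.beq (wCc2.Pt 0) (wCtl2.Pt 0) && Nat.beq (ltAll 1782 [wCtl1.Pt 0, wCtl0.Pt 0]) 0 && kChk wCe_P w_P wCc2.K 1 H16.Suz.B [wCtl1.Pt 0, wCtl0.Pt 0]) = true := by decide +kernel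
theorem wCc1_e_0 : allZ (dent wCc1 wCe_P (nat_lit 1782)) (nat_lit 0) (nat_lit 2) = true := by decide +kernel
theorem wCc1_h : 0 < wCc1.n ∧ 0 < wCc1.K ∧ wCc1.Pt 0 < 1782 ∧ wCc1.Q (wCc1.Pt 0) = 0 := by decide +kernel
theorem wCtn1_0 : (Nat.ble wCtl1.K 16 && Nat.beq (ltAll 1782 [wCtl0.Pt 0]) 0 && kChk wCe_P w_P wCtn1.Kn 1 H16.Suz.B [wCtl0.Pt 0] && allL (ltAll 1) wCtn1.pre && planOK wCth_P w_P 1 (wCtl1.Pt 0) wCtn1.plan [wCtl1, wCtl2, wCtl3, wCtl4, wCtl5]) = true := by decide +kernel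
theorem wCtn1_1_0 : allZ (wCtn1.ent H16.Suz.P wCth_P w_P w_P wCe_P (nat_lit 7) (nat_lit 1) H16.Suz.B wCtl1 [wCtl2, wCtl3, wCtl4, wCtl5] (memO wCc1)) (nat_lit 0) (nat_lit 416) = true := by decide +kernel
theorem wC_f1 : (Nat.ble wCc1.K 3 && Nat.ble (topK [wCc2]) wCc1.K && Nat.beq (wCc1.Pt 0) (wCtl1.Pt 0) && Nat.beq (ltAll 1782 [wCtl0.Pt 0]) 0 && kChk wCe_P w_P wCc1.K 1 H16.Suz.B [wCtl0.Pt 0]) = true := by decide +kernel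
theorem wCc0_e_0 : allZ (dent wCc0 wCe_P (nat_lit 1782)) (nat_lit 0) (nat_lit 3) = true := by decide +kernel
theorem wCc0_h : 0 < wCc0.n ∧ 0 < wCc0.K ∧ wCc0.Pt 0 < 1782 ∧ wCc0.Q (wCc0.Pt 0) = 0 := by decide +kernel
theorem wCtn2_0 : (Nat.ble wCtl0.K 16 && Nat.beq (ltAll 1782 []) 0 && kChk wCe_P w_P wCtn2.Kn 1 H16.Suz.B [] && allL (ltAll 1) wCtn2.pre && planOK wCth_P w_P 1 (wCtl0.Pt 0) wCtn2.plan [wCtl0, wCtl1, wCtl2, wCtl3, wCtl4, wCtl5]) = true := by decide +kernel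
theorem wCtn2_1_0 : allZ (wCtn2.ent H16.Suz.P wCth_P w_P w_P wCe_P (nat_lit 7) (nat_lit 1) H16.Suz.B wCtl0 [wCtl1, wCtl2, wCtl3, wCtl4, wCtl5] (memO wCc0)) (nat_lit 0) (nat_lit 1782) = true := by decide +kernel
theorem wC_f0 : (Nat.ble wCc0.K 3 && Nat.ble (topK [wCc1, wCc2]) wCc0.K && Nat.beq (wCc0.Pt 0) (wCtl0.Pt 0) && Nat.beq (ltAll 1782 []) 0 && kChk wCe_P w_P wCc0.K 1 H16.Suz.B []) = true := by decide +kernel
theorem wC_c : chainCard [wCc0, wCc1, wCc2] = 84 ∧ topK [wCc0, wCc1, wCc2] = 3 := by decide +kernel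
theorem wc_k : allZ2 (fun a j => force a fun a => force j fun j => cjL w_P w_P 1 H16.Suz.B a [j] [j]) 3 1 = true := by decide +kernel
theorem wq1_k : fixL w_P 3 H16.Suz.B (List.replicate 2 1) = 0 := by decide +kernel
theorem wq2_k : fixL w_P 3 H16.Suz.B (List.replicate 3 2) = 0 := by decide +kernel
theorem wq3_k : eqL w_P 3 H16.Suz.B [nat_lit 2, nat_lit 1, nat_lit 2, nat_lit 1, nat_lit 2, nat_lit 1] [] = 0 := by decide +kernel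
theorem wq4_k : 0 < 1782 ∧ ltAll 3 (List.replicate 1 1) = 0 ∧ ltAll 3 [] = 0 ∧ apW w_P (List.replicate 1 1) 0 ≠ apW w_P [] 0 := by decide +kernel
theorem p_lt : allL (ltAll 7) p_W = true := by decide +kernel
theorem p_m_a : allZ2 (matEnt (wdsP H16.Suz.P p_W) p_P) (nat_lit 5) (nat_lit 1782) = true := by decide +kernel
theorem pp_r_a : allZ2 (resEnt p_P ppP ppE ppI (nat_lit 1782) (nat_lit 52)) (nat_lit 2) (nat_lit 52) = true := by decide +kernel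
theorem pp_b : neL H16.Suz.B (ppB.map ppE) = 0 ∧ ltAll 52 ppB = 0 := by decide +kernel
theorem pp_p : allZ2 (pcEnt ppP (nat_lit 5) ppB ppC) 2 2 = true := by decide +kernel
theorem pp_e : allL (ltAll 2) ppe = true := by decide +kernel
theorem ppl0_e_0 : allZ (dent ppl0 (wdsP ppP ppe) (nat_lit 52)) (nat_lit 0) (nat_lit 24) = true := by decide +kernel
theorem ppl0_h : 0 < ppl0.n ∧ 0 < ppl0.K ∧ ppl0.Pt 0 < 52 ∧ ppl0.Q (ppl0.Pt 0) = 0 := by decide +kernel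
theorem pp_f0 : (Nat.ble ppl0.K 2 && Nat.ble (topK []) ppl0.K && fixLetters (wdsP ppP ppe) (topK []) (ppl0.Pt 0)) = true := by decide +kernel
theorem pp_c : chainCard [ppl0] = 5 ^ 2 ∧ ¬ 5 ^ (2 + 1) ∣ 448345497600 := by decide +kernel
theorem pcr_lt : allL (ltAll 7) pcr_W = true := by decide +kernel
theorem pc_c0 : (Nat.ble 2 2 && Nat.beq (ltAll 2 []) 0 && Nat.beq (pcT0.chk H16.Suz.P ppP pcr_P ppE 7 2 5 5 2 ppB 2 [] 0) 0) = true := by decide +kernel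
theorem po_e_0 : allZ (H0.Fi.orbEnt p_P (rl [nat_lit 2, nat_lit 3, nat_lit 4] p_P) (nat_lit 5) (nat_lit 2) (nat_lit 3) H16.Suz.B poD poL por poq poR) (nat_lit 0) (nat_lit 25) = true := by decide +kernel
theorem po_q : allZ (fun c => Nat.sub (Nat.succ (poq c)) 2) 0 25 = true := by decide +kernel
theorem pCth_lt : allL (ltAll 7) pCth_W = true := by decide +kernel
theorem pCtl0_e_0 : allZ (dent pCtl0 pCth_P (nat_lit 1782)) (nat_lit 0) (nat_lit 1781) = true := by decide +kernel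
theorem pCtl0_h : 0 < pCtl0.n ∧ 0 < pCtl0.K ∧ pCtl0.Pt 0 < 1782 ∧ pCtl0.Q (pCtl0.Pt 0) = 0 := by decide +kernel
theorem pCtl1_e_0 : allZ (dent pCtl1 pCth_P (nat_lit 1782)) (nat_lit 0) (nat_lit 1364) = true := by decide +kernel
theorem pCtl1_h : 0 < pCtl1.n ∧ 0 < pCtl1.K ∧ pCtl1.Pt 0 < 1782 ∧ pCtl1.Q (pCtl1.Pt 0) = 0 := by decide +kernel
theorem pCtl2_e_0 : allZ (dent pCtl2 pCth_P (nat_lit 1782)) (nat_lit 0) (nat_lit 1023) = true := by decide +kernel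
theorem pCtl2_h : 0 < pCtl2.n ∧ 0 < pCtl2.K ∧ pCtl2.Pt 0 < 1782 ∧ pCtl2.Q (pCtl2.Pt 0) = 0 := by decide +kernel
theorem pCtl3_e_0 : allZ (dent pCtl3 pCth_P (nat_lit 1782)) (nat_lit 0) (nat_lit 2) = true := by decide +kernel
theorem pCtl3_h : 0 < pCtl3.n ∧ 0 < pCtl3.K ∧ pCtl3.Pt 0 < 1782 ∧ pCtl3.Q (pCtl3.Pt 0) = 0 := by decide +kernel
theorem pCtl4_e_0 : allZ (dent pCtl4 pCth_P (nat_lit 1782)) (nat_lit 0) (nat_lit 4) = true := by decide +kernel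
theorem pCtl4_h : 0 < pCtl4.n ∧ 0 < pCtl4.K ∧ pCtl4.Pt 0 < 1782 ∧ pCtl4.Q (pCtl4.Pt 0) = 0 := by decide +kernel
theorem pCtl5_e_0 : allZ (dent pCtl5 pCth_P (nat_lit 1782)) (nat_lit 0) (nat_lit 3) = true := by decide +kernel
theorem pCtl5_h : 0 < pCtl5.n ∧ 0 < pCtl5.K ∧ pCtl5.Pt 0 < 1782 ∧ pCtl5.Q (pCtl5.Pt 0) = 0 := by decide +kernel
theorem pCtl6_e_0 : allZ (dent pCtl6 pCth_P (nat_lit 1782)) (nat_lit 0) (nat_lit 2) = true := by decide +kernel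
theorem pCtl6_h : 0 < pCtl6.n ∧ 0 < pCtl6.K ∧ pCtl6.Pt 0 < 1782 ∧ pCtl6.Q (pCtl6.Pt 0) = 0 := by decide +kernel
theorem pCt_f6 : (Nat.ble pCtl6.K 16 && Nat.ble (topK []) pCtl6.K && fixLetters pCth_P (topK []) (pCtl6.Pt 0)) = true := by decide +kernel
theorem pCt_f5 : (Nat.ble pCtl5.K 16 && Nat.ble (topK [pCtl6]) pCtl5.K && fixLetters pCth_P (topK [pCtl6]) (pCtl5.Pt 0)) = true := by decide +kernel
theorem pCt_f4 : (Nat.ble pCtl4.K 16 && Nat.ble (topK [pCtl5, pCtl6]) pCtl4.K && fixLetters pCth_P (topK [pCtl5, pCtl6]) (pCtl4.Pt 0)) = true := by decide +kernel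
theorem pCt_f3 : (Nat.ble pCtl3.K 16 && Nat.ble (topK [pCtl4, pCtl5, pCtl6]) pCtl3.K && fixLetters pCth_P (topK [pCtl4, pCtl5, pCtl6]) (pCtl3.Pt 0)) = true := by decide +kernel
theorem pCt_f2 : (Nat.ble pCtl2.K 16 && Nat.ble (topK [pCtl3, pCtl4, pCtl5, pCtl6]) pCtl2.K && fixLetters pCth_P (topK [pCtl3, pCtl4, pCtl5, pCtl6]) (pCtl2.Pt 0)) = true := by decide +kernel
theorem pCt_f1 : (Nat.ble pCtl1.K 16 && Nat.ble (topK [pCtl2, pCtl3, pCtl4, pCtl5, pCtl6]) pCtl1.K && fixLetters pCth_P (topK [pCtl2, pCtl3, pCtl4, pCtl5, pCtl6]) (pCtl1.Pt 0)) = true := by decide +kernel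
theorem pCt_f0 : (Nat.ble pCtl0.K 16 && Nat.ble (topK [pCtl1, pCtl2, pCtl3, pCtl4, pCtl5, pCtl6]) pCtl0.K && fixLetters pCth_P (topK [pCtl1, pCtl2, pCtl3, pCtl4, pCtl5, pCtl6]) (pCtl0.Pt 0)) = true := by decide +kernel
theorem pCt_c : chainCard [pCtl0, pCtl1, pCtl2, pCtl3, pCtl4, pCtl5, pCtl6] = 448345497600 := by decide +kernel
theorem pCe_lt : allL (ltAll 7) pCe_W = true := by decide +kernel
theorem pC_f6 : (Nat.ble pCtl6.K 16 && Nat.blt (nat_lit 2) 1782 && fixLetters pCth_P pCtl6.K (nat_lit 2) && Nat.beq (ltAll 2 [nat_lit 1]) 0 && Nat.beq (apW p_P [nat_lit 1] (nat_lit 2)) (pCtl6.Pt 0)) = true := by decide +kernel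
theorem pC_f5 : (Nat.ble pCtl5.K 16 && Nat.blt (nat_lit 2) 1782 && fixLetters pCth_P pCtl5.K (nat_lit 2) && Nat.beq (ltAll 2 [nat_lit 0]) 0 && Nat.beq (apW p_P [nat_lit 0] (nat_lit 2)) (pCtl5.Pt 0)) = true := by decide +kernel
theorem pCc4_e_0 : allZ (dent pCc4 pCe_P (nat_lit 1782)) (nat_lit 0) (nat_lit 4) = true := by decide +kernel
theorem pCc4_h : 0 < pCc4.n ∧ 0 < pCc4.K ∧ pCc4.Pt 0 < 1782 ∧ pCc4.Q (pCc4.Pt 0) = 0 := by decide +kernel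
theorem pCtn0_0 : (Nat.ble pCtl4.K 16 && Nat.beq (ltAll 1782 [pCtl3.Pt 0, pCtl2.Pt 0, pCtl1.Pt 0, pCtl0.Pt 0]) 0 && kChk pCe_P p_P pCtn0.Kn 2 H16.Suz.B [pCtl3.Pt 0, pCtl2.Pt 0, pCtl1.Pt 0, pCtl0.Pt 0] && allL (ltAll 2) pCtn0.pre && planOK pCth_P p_P 2 (pCtl4.Pt 0) pCtn0.plan [pCtl4, pCtl5, pCtl6]) = true := by decide +kernel
theorem pCtn0_1_0 : allZ (pCtn0.ent H16.Suz.P pCth_P p_P p_P pCe_P (nat_lit 7) (nat_lit 2) H16.Suz.B pCtl4 [pCtl5, pCtl6] (memO pCc4)) (nat_lit 0) (nat_lit 5) = true := by decide +kernel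
theorem pC_f4 : (Nat.ble pCc4.K 2 && Nat.ble (topK []) pCc4.K && Nat.beq (pCc4.Pt 0) (pCtl4.Pt 0) && Nat.beq (ltAll 1782 [pCtl3.Pt 0, pCtl2.Pt 0, pCtl1.Pt 0, pCtl0.Pt 0]) 0 && kChk pCe_P p_P pCc4.K 2 H16.Suz.B [pCtl3.Pt 0, pCtl2.Pt 0, pCtl1.Pt 0, pCtl0.Pt 0]) = true := by decide +kernel
theorem pC_f3 : (Nat.ble pCtl3.K 16 && Nat.blt (nat_lit 45) 1782 && fixLetters pCth_P pCtl3.K (nat_lit 45) && Nat.beq (ltAll 2 [nat_lit 0, nat_lit 0, nat_lit 0]) 0 && Nat.beq (apW p_P [nat_lit 0, nat_lit 0, nat_lit 0] (nat_lit 45)) (pCtl3.Pt 0)) = true := by decide +kernel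
theorem pC_f2 : (Nat.ble pCtl2.K 16 && Nat.blt (nat_lit 45) 1782 && fixLetters pCth_P pCtl2.K (nat_lit 45) && Nat.beq (ltAll 2 [nat_lit 0, nat_lit 0]) 0 && Nat.beq (apW p_P [nat_lit 0, nat_lit 0] (nat_lit 45)) (pCtl2.Pt 0)) = true := by decide +kernel
theorem pC_f1 : (Nat.ble pCtl1.K 16 && Nat.blt (nat_lit 45) 1782 && fixLetters pCth_P pCtl1.K (nat_lit 45) && Nat.beq (ltAll 2 [nat_lit 0]) 0 && Nat.beq (apW p_P [nat_lit 0] (nat_lit 45)) (pCtl1.Pt 0)) = true := by decide +kernel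
theorem pCc0_e_0 : allZ (dent pCc0 pCe_P (nat_lit 1782)) (nat_lit 0) (nat_lit 4) = true := by decide +kernel
theorem pCc0_h : 0 < pCc0.n ∧ 0 < pCc0.K ∧ pCc0.Pt 0 < 1782 ∧ pCc0.Q (pCc0.Pt 0) = 0 := by decide +kernel

end H0.Sz
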